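import Cfsg.Agent.H917.Conj.Basic
import Cfsg.Agent.SmallSimple.DegreeData
import Cfsg.Agent.J2Type.SylowSeven
import Cfsg.Agent.Blocks.ExistsModular
import Cfsg.Agent.H845.CopTits
import Cfsg.Agent.H800.Sp.TitsFive
import Cfsg.Agent.H87.TitsData
import Cfsg.Agent.S1074
import Cfsg.Agent.Characters.SchurBound
import Cfsg.Agent.Prune
set_option linter.all false
prune_inst 0x7f00000000000000000000000000000000000000000000000000000000000000000000000000000000000000000000000000000000000000000000000000000000000000000000000000000000000000003fffffffffffffffffffffffffffbeffbdffffffff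
open scoped Cfsg.Agent.FastGrp

-- part: H476/Conj/Prime
section
/-!
# The conjugation character: a self-centralizing Sylow subgroup of prime order (S4792, helper476)

`row_of_prime` : `P` a Sylow `p`-subgroup of order `p`, `C(P) = P`, `e = |N(P) : P|`; no nontrivial irreducible
character has degree `p - 1` or `e`: then `Row G`.
-/

set_option autoImplicit false

open Cfsg

namespace Cfsg.Agent.H476.Conj

open Cfsg.Agent.H430.Conj Cfsg.Agent.Characters.Core Subgroup Cfsg.Agent.SmallSimple.DegreeData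

universe u

/-- the centralizers of the nontrivial elements -/
theorem cc_of_prime {G : Type u} [Group G] [Finite G] {p : ℕ} (hp : p.Prime) {P : Subgroup G} (hP : Nat.card P = p)
    (hC : centralizer (P : Set G) = P) : ∀ c ∈ P, c ≠ 1 → centralizer {c} = P := by
  intro c hc hc1
  have h1 : zpowers c = P := by
    refine Subgroup.eq_of_le_of_card_ge (zpowers_le.2 hc) ?_
    have h2 : Nat.card (zpowers c) ∣ p := by
      rw [← hP]; exact card_dvd_of_le (zpowers_le.2 hc)
    rcases (Nat.dvd_prime hp).1 h2 with h | h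
    · exact absurd (by rwa [Nat.card_zpowers, orderOf_eq_one_iff] at h) hc1
    · rw [h, hP]
  apply le_antisymm
  · intro g hg
    rw [← hC, mem_centralizer_iff]
    rw [mem_centralizer_singleton_iff] at hg
    intro y hy
    rw [SetLike.mem_coe, ← h1] at hy
    obtain ⟨k, rfl⟩ := hy
    exact (show Commute g c from hg).symm.zpow_left k
  · intro g hg
    rw [← hC, mem_centralizer_iff] at hg
    rw [mem_centralizer_singleton_iff]
    exact (hg c hc).symm

variable {G : Type u} [Group G] [Finite G] {p : ℕ} [hp : Fact p.Prime]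

/-- **A fixed vector of a self-centralizing Sylow subgroup of prime order.** -/
theorem hasFix_of_prime (hp2 : p ≠ 2) (P : Sylow p G) (hP : Nat.card P = p)
    (hC : centralizer (P : Set G) = (P : Subgroup G)) {e : ℕ}
    (he : (centralizer (P : Set G)).relIndex (normalizer (P : Set G)) = e) {χ : G → ℂ} (hχ : IsIrrCharacter G χ)
    {d : ℕ} (hd : χ 1 = d) (h1 : d ≠ p - 1) (h2 : d ≠ e) : HasFix (P : Subgroup G) χ := by
  classical
  obtain ⟨M, hM⟩ := Cfsg.Agent.Blocks.ExistsModular.exists_isPModular hp.out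
  obtain ⟨t, ht⟩ := Cfsg.Agent.J2Type.SylowSeven.relIndex_dvd_of_card_prime (P : Subgroup G) hp.out hP
  have ht' : e * t = p - 1 := by rw [← he]; exact ht.symm
  obtain ⟨B⟩ := exists_blockData p hp2 M hM P hP e t he ht'
  have := Fintype.ofFinite (P : Subgroup G)
  have hcard : Fintype.card (P : Subgroup G) = p := by rw [← Nat.card_eq_fintype_card]; exact hP
  have hp1 : 1 ≤ p := hp.out.one_lt.le
  have hcast : ((p - 1 : ℕ) : ℂ) = (p : ℂ) - 1 := by push_cast [Nat.cast_sub hp1]; ring
  unfold HasFix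
  rw [finsum_eq_sum_of_fintype, ← Finset.add_sum_erase _ _ (Finset.mem_univ (1 : (P : Subgroup G)))]
  rw [Subgroup.coe_one, hd]
  by_cases hB : (⟨χ, hχ⟩ : IrrCharacter G) ∈ principalBlock M G
  · rcases (B.mem_block _).1 hB with hB | hB
    · -- nonexceptional
      have h3 : ∀ x ∈ Finset.univ.erase (1 : (P : Subgroup G)), χ (x : G) = B.ε ⟨χ, hχ⟩ := fun x hx =>
        B.val' hB x.2 fun h => (Finset.mem_erase.1 hx).1 (Subtype.ext h)
      rw [Finset.sum_congr rfl h3, Finset.sum_const, Finset.card_erase_of_mem (Finset.mem_univ _), Finset.card_univ,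
        hcard, nsmul_eq_mul]
      intro h4
      rcases B.ε_mem _ hB with h5 | h5
      · rw [h5] at h4
        have h6 : (d : ℤ) + (p - 1 : ℕ) * 1 = 0 := by exact_mod_cast h4
        obtain ⟨n, hn, hn1⟩ := isIrr_apply_one hχ
        have h7 : n = d := by exact_mod_cast hn1.symm.trans hd
        omega
      · rw [h5] at h4
        have h6 : (d : ℤ) + (p - 1 : ℕ) * (-1) = 0 := by exact_mod_cast h4
        omega
    · -- exceptional
      have h3 : ∀ x ∈ Finset.univ.erase (1 : (P : Subgroup G)), χ (x : G) =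
          B.d * ∑ l ∈ B.S ⟨χ, hχ⟩, ((l x : ℂˣ) : ℂ) := fun x hx =>
        B.val_X' hB x (Finset.mem_erase.1 hx).1
      have h4 : ∀ l ∈ B.S ⟨χ, hχ⟩, ∑ x ∈ Finset.univ.erase (1 : (P : Subgroup G)), ((l x : ℂˣ) : ℂ) = -1 := by
        intro l hl
        have hl1 : l ≠ 1 := fun h => B.one_notMem_S _ hB (h ▸ hl)
        have h5 : ∑ x : (P : Subgroup G), ((l x : ℂˣ) : ℂ) = 0 := by
          have h6 : (Units.coeHom ℂ).comp l ≠ 1 := by
            intro h
            apply hl1
            ext x
            exact DFunLike.congr_fun h x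
          exact sum_hom_units_eq_zero _ h6
        rw [← Finset.add_sum_erase _ _ (Finset.mem_univ (1 : (P : Subgroup G))), map_one, Units.val_one] at h5
        linear_combination h5
      rw [Finset.sum_congr rfl h3, ← Finset.mul_sum, Finset.sum_comm, Finset.sum_congr rfl h4, Finset.sum_const,
        B.card_S _ hB, nsmul_eq_mul]
      intro h5
      rcases B.d_mem with h6 | h6
      · rw [h6] at h5
        have h7 : (d : ℤ) + 1 * (e * (-1)) = 0 := by exact_mod_cast h5
        omega
      · rw [h6] at h5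
        have h7 : (d : ℤ) + (-1) * (e * (-1)) = 0 := by exact_mod_cast h5
        obtain ⟨n, hn, hn1⟩ := isIrr_apply_one hχ
        have h8 : n = d := by exact_mod_cast hn1.symm.trans hd
        omega
  · have h3 : ∀ x ∈ Finset.univ.erase (1 : (P : Subgroup G)), χ (x : G) = 0 := fun x hx =>
      B.vanish hM hP hC hB x.2 fun h => (Finset.mem_erase.1 hx).1 (Subtype.ext h)
    rw [Finset.sum_eq_zero h3, add_zero]
    rw [← hd]
    exact isIrr_apply_one_ne_zero hχ

/-- **The row of a group with a self-centralizing Sylow subgroup of prime order.** -/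
theorem row_of_prime (hp2 : p ≠ 2) (P : Sylow p G) (hP : Nat.card P = p)
    (hC : centralizer (P : Set G) = (P : Subgroup G)) {e : ℕ}
    (he : (centralizer (P : Set G)).relIndex (normalizer (P : Set G)) = e)
    (h : ∀ (χ : G → ℂ) (d : ℕ), IsIrrCharacter G χ → χ ≠ 1 → χ 1 = d → d ≠ p - 1 ∧ d ≠ e) : Row G := by
  intro χ hχ
  by_cases h1 : χ = 1
  · exact ⟨1, by rw [h1]; exact hasFix_one _⟩
  obtain ⟨d, -, hd⟩ := isIrr_apply_one hχ
  obtain ⟨h2, h3⟩ := h χ d hχ h1 hd
  have h4 := hasFix_of_prime hp2 P hP hC he hχ hd h2 h3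
  have hnt : Nontrivial (P : Subgroup G) := by
    rw [← Finite.one_lt_card_iff_nontrivial]
    have : Nat.card (P : Subgroup G) = p := hP
    rw [this]
    exact hp.out.one_lt
  obtain ⟨x, hx⟩ := exists_ne (1 : (P : Subgroup G))
  refine ⟨x, ?_⟩
  rw [cc_of_prime hp.out hP hC x x.2 fun h => hx (Subtype.ext h)]
  exact h4

/-- The same with all nontrivial degrees at least `p`. -/
theorem row_of_prime_le (hp2 : p ≠ 2) (P : Sylow p G) (hP : Nat.card P = p)
    (hC : centralizer (P : Set G) = (P : Subgroup G))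
    (h : ∀ (χ : G → ℂ) (d : ℕ), IsIrrCharacter G χ → χ ≠ 1 → χ 1 = d → p ≤ d) : Row G := by
  refine row_of_prime hp2 P hP hC rfl fun χ d hχ h1 hd => ?_
  have h2 := h χ d hχ h1 hd
  have hp1 := hp.out.one_lt
  obtain ⟨t, ht⟩ := Cfsg.Agent.J2Type.SylowSeven.relIndex_dvd_of_card_prime (P : Subgroup G) hp.out hP
  have h3 : (centralizer (P : Set G)).relIndex (normalizer (P : Set G)) ≤ p - 1 :=
    Nat.le_of_dvd (by omega) ⟨t, ht⟩
  exact ⟨by omega, by omega⟩

end Cfsg.Agent.H476.Conj
end

-- part: H476/Conj/Tits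
section
/-!
# The conjugation character: the Tits group (S4792, helper476)

The Sylow 13-subgroup is a CC-subgroup with `|N : C| = 6`.  All nontrivial characters have degree `≥ 24` by the value
on the Sylow 5-subgroup, whose nontrivial elements are conjugate.
-/

set_option autoImplicit false

open Cfsg

namespace Cfsg.Agent.H476.Conj

open Cfsg.Lie Cfsg.Agent.H430.Conj Cfsg.Agent.Characters.Core Subgroup

universe u

/-- a subgroup of order 25 whose nontrivial elements are conjugate -/
def Five (G : Type u) [Group G] : Prop :=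
  ∃ P : Subgroup G, Nat.card P = 25 ∧ ∀ x ∈ P, x ≠ 1 → ∀ y ∈ P, y ≠ 1 → ∃ s : G, s * x * s⁻¹ = y

/-- a lower bound for the degrees -/
theorem Five.le_deg {G : Type u} [Group G] [Finite G] [IsSimpleGroup G] (h : Five G) {χ : G → ℂ}
    (hχ : IsIrrCharacter G χ) (h1 : χ ≠ 1) {d : ℕ} (hd : χ 1 = d) : 24 ≤ d := by
  classical
  obtain ⟨P, hP, hfus⟩ := h
  have := Fintype.ofFinite P
  have hPc : Fintype.card P = 25 := by rw [← Nat.card_eq_fintype_card, hP]
  have hnt : Nontrivial P := by
    rw [← Finite.one_lt_card_iff_nontrivial, hP]; norm_num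
  obtain ⟨y, hy⟩ := exists_ne (1 : P)
  have hy1 : (y : G) ≠ 1 := fun h => hy (Subtype.ext h)
  obtain ⟨n, hn⟩ := sum_eq_nat (isIrr_isCharacter hχ) P
  have hcl := isCharacter_isClassFunction (isIrr_isCharacter hχ)
  have hval : ∀ x ∈ Finset.univ.erase (1 : P), χ (x : G) = χ y := by
    intro x hx
    obtain ⟨s, hs⟩ := hfus y y.2 hy1 x x.2 fun h => (Finset.mem_erase.1 hx).1 (Subtype.ext h)
    rw [← hs]
    exact hcl y s
  rw [finsum_eq_sum_of_fintype, ← Finset.add_sum_erase _ _ (Finset.mem_univ (1 : P)), Finset.sum_congr rfl hval,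
    Finset.sum_const, Finset.card_erase_of_mem (Finset.mem_univ _), Finset.card_univ, hPc, Subgroup.coe_one, hd, hP,
    nsmul_eq_mul] at hn
  push_cast at hn
  obtain ⟨w, hw⟩ : ∃ w : ℤ, χ y = w := by
    refine Characters.GaloisBasic.exists_int_of_isIntegral
      (Characters.GaloisBasic.isIntegral_apply (isIrr_isCharacter hχ) y) ⟨(25 * n - d) / 24, ?_⟩
    push_cast
    linear_combination hn / 24
  rw [hw] at hn
  have hn' : (d : ℤ) + 24 * w = 25 * n := by
    have h : (((d : ℤ) + 24 * w : ℤ) : ℂ) = ((25 * n : ℤ) : ℂ) := by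
      push_cast
      exact hn
    exact Int.cast_injective h
  have h2 := Characters.SchurBound.norm_le (isIrr_isCharacter hχ) hd y
  rw [hw] at h2
  have h3 : |w| ≤ d := by
    rw [Complex.norm_intCast] at h2
    exact_mod_cast h2
  rw [abs_le] at h3
  by_contra hlt
  push Not at hlt
  have h4 : w = d := by omega
  obtain ⟨k, ρ, hρ, rfl⟩ := hχ
  have h5 : ρ.character y = (Module.finrank ℂ (Fin k → ℂ) : ℂ) := by
    rw [hw, h4, ← Representation.char_one ρ, hd]
    push_cast
    rfl
  have h6 := (Characters.Values.character_eq_finrank_iff ρ y).1 h5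
  exact hy1 (injective_of_simple hρ h1 (by rw [h6, map_one]; rfl))

theorem five_C : Five Cfsg.Agent.Omega.TwoF.Tits.C :=
  ⟨Cfsg.Agent.CpAutTits.Fus.P, Cfsg.Agent.CpAutTits.Fus.card_P, fun x hx hx1 y hy hy1 => by
    obtain ⟨s, -, hs⟩ := Cfsg.Agent.CpAutTits.Fus.fus hx hx1 hy hy1
    exact ⟨s, hs⟩⟩

theorem five_aux (K : Subgroup (Matrix.GeneralLinearGroup Cfsg.Agent.ChevalleyStructure.Tits.Mat.I52 (ZMod 2)))
    (hK : K = Cfsg.Agent.ChevalleyStructure.Tits.Order.H0) : Five ↥(_root_.commutator K) := by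
  subst hK
  exact five_C

theorem five_tits : Five Cfsg.Lie.TitsGroup :=
  five_aux (Cfsg.Lie.twistedF4 (ZMod 2) 1) Cfsg.Agent.ChevalleyStructure.Tits.Main.T0_eq_H0

/-- **the row of the Tits group** -/
theorem row_aux {G : Type} [Group G] [Finite G] (hG : Cfsg.Lie.IsoTits G) (hs : IsSimpleGroup G)
    (hc : Nat.card G = 2 ^ 11 * 3 ^ 3 * 5 ^ 2 * 13) (D : H87.TitsAbs.Dat G) (h5 : Five G) : Row G := by
  have f13 : Fact (Nat.Prime 13) := ⟨by norm_num⟩
  have hC := H845.CopTits.card_cent_x hG D
  have hx : orderOf D.x = 13 := orderOf_eq_prime D.x13 D.x1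
  have hZ : Nat.card (zpowers D.x) = 13 := by rw [Nat.card_zpowers, hx]
  obtain ⟨P, hxP⟩ := (IsPGroup.of_card (G := zpowers D.x) (p := 13) (n := 1) (by rw [pow_one, hZ])).exists_le_sylow
  have hPc : Nat.card P = 13 :=
    Cfsg.Agent.H661.Spor.card_sylow_eq P (by rw [hc]; norm_num) (by rw [hc]; norm_num)
  have hP : (P : Subgroup G) = zpowers D.x := (eq_of_le_of_card_ge hxP (by rw [hPc, hZ])).symm
  have hCP : centralizer (P : Set G) = (P : Subgroup G) := by
    have h1 : centralizer (((P : Subgroup G)) : Set G) = centralizer {D.x} := by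
      rw [hP, zpowers_eq_closure, centralizer_closure]
    change centralizer (((P : Subgroup G)) : Set G) = (P : Subgroup G)
    symm
    apply Subgroup.eq_of_le_of_card_ge
    · rw [h1, hP, zpowers_le]
      exact mem_centralizer_singleton_iff.2 rfl
    · rw [h1, hC]
      exact hPc.ge
  refine row_of_prime_le (by norm_num) P hPc hCP fun χ d hχ h1 hd => ?_
  have := h5.le_deg hχ h1 hd
  omega

theorem iso_refl : Cfsg.Lie.IsoTits Cfsg.Lie.TitsGroup := ⟨MulEquiv.refl _⟩

theorem row_TG (hfin : Finite Cfsg.Lie.TitsGroup) : Row Cfsg.Lie.TitsGroup := by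
  obtain ⟨_, hs, _, hcard⟩ := Cfsg.Agent.S1074.result
  obtain ⟨D⟩ := H87.TitsData.dat_tits
  have h5 := five_tits
  exact row_aux iso_refl hs hcard D h5

theorem row_congr {G : Type} {H : Type*} [Group G] [Group H] (hG : Finite G → Row G) (e : H ≃* G) (hH : Finite H) :
    Row H :=
  have hfin : Finite G := Finite.of_equiv H e.toEquiv
  Row.of_equiv e.symm (hG hfin)

/-- **the row of the Tits group** -/
theorem row_tits {S : Type*} [Group S] [hf : Finite S] (h : Lie.IsoTits S) (_hs : IsSimpleGroup S) : Row S := by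
  obtain ⟨e⟩ := h
  exact row_congr row_TG e hf

end Cfsg.Agent.H476.Conj
end
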